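import Mathlib.RingTheory.PowerSeries.Exp
import Mathlib.RingTheory.PowerSeries.Derivative
import Mathlib.RingTheory.PowerSeries.Substitution

/-! # Power series with the same logarithmic derivative (helper24) -/

set_option autoImplicit false

namespace Groth.Agent.Lib.Helper24.PS

open PowerSeries

variable {A : Type*} [Field A] [CharZero A]

/-- Two power series with the same constant term and the same logarithmic derivative are equal. -/
theorem eq_of_derivative_eq_mul {F G h : A⟦X⟧} (hF : d⁄dX A F = F * h) (hG : d⁄dX A G = G * h)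
    (hc : constantCoeff F = constantCoeff G) : F = G := by
  ext n
  induction n using Nat.strong_induction_on with
  | _ n ih =>
    cases n with
    | zero => rw [coeff_zero_eq_constantCoeff, hc]
    | succ n =>
      have h1 : coeff n (d⁄dX A F) = coeff n (F * h) := congrArg (coeff n) hF
      have h2 : coeff n (d⁄dX A G) = coeff n (G * h) := congrArg (coeff n) hG
      rw [coeff_derivative, coeff_mul] at h1 h2
      have h3 : ∑ p ∈ Finset.antidiagonal n, coeff p.1 F * coeff p.2 h =
          ∑ p ∈ Finset.antidiagonal n, coeff p.1 G * coeff p.2 h := by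
        refine Finset.sum_congr rfl fun p hp => ?_
        rw [ih p.1 (by have := Finset.mem_antidiagonal.mp hp; omega)]
      have h4 : coeff (n + 1) F * ((n : A) + 1) = coeff (n + 1) G * ((n : A) + 1) := by
        rw [h1, h2, h3]
      have h5 : ((n : A) + 1) ≠ 0 := by exact_mod_cast Nat.succ_ne_zero n
      exact mul_right_cancel₀ h5 h4

omit [CharZero A] in
theorem hasSubst_of_constantCoeff_zero {L : A⟦X⟧} (hL : constantCoeff L = 0) : HasSubst L :=
  HasSubst.of_constantCoeff_zero' hL

/-- The derivative of `exp ∘ L`. -/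
theorem derivative_exp_subst {L : A⟦X⟧} (hL : constantCoeff L = 0) :
    d⁄dX A ((exp A).subst L) = (exp A).subst L * d⁄dX A L := by
  rw [derivative_subst (hasSubst_of_constantCoeff_zero hL), derivative_exp]

theorem constantCoeff_exp_subst {L : A⟦X⟧} (hL : constantCoeff L = 0) :
    constantCoeff ((exp A).subst L) = 1 := by
  have h1 : (exp A) = 1 + (exp A - 1) := by ring
  rw [h1, subst_add (hasSubst_of_constantCoeff_zero hL), map_add]
  have h2 : constantCoeff ((exp A - 1 : A⟦X⟧).subst L) = 0 :=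
    constantCoeff_subst_eq_zero hL _ (by simp)
  have h3 : ((1 : A⟦X⟧).subst L : A⟦X⟧) = 1 := by
    rw [← map_one (C (R := A)), subst_C]
    simp
  rw [h2, h3]
  simp

/-- Logarithmic derivative of a product. -/
theorem derivative_prod_of_logDeriv {ι : Type*} (s : Finset ι) (f h : ι → A⟦X⟧)
    (H : ∀ i ∈ s, d⁄dX A (f i) = f i * h i) :
    d⁄dX A (∏ i ∈ s, f i) = (∏ i ∈ s, f i) * ∑ i ∈ s, h i := by
  classical
  induction s using Finset.induction_on with
  | empty => simp [derivative_one]
  | insert a s ha ih =>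
    rw [Finset.prod_insert ha, Finset.sum_insert ha, Derivation.leibniz,
      ih (fun i hi => H i (Finset.mem_insert_of_mem hi)), H a (Finset.mem_insert_self a s)]
    simp only [smul_eq_mul]
    ring

/-- Logarithmic derivative of a power. -/
theorem derivative_pow_of_logDeriv {f h : A⟦X⟧} (H : d⁄dX A f = f * h) (n : ℕ) :
    d⁄dX A (f ^ n) = f ^ n * ((n : A⟦X⟧) * h) := by
  induction n with
  | zero => simp [derivative_one]
  | succ n ih =>
    rw [pow_succ, Derivation.leibniz, ih, H]
    simp only [smul_eq_mul]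
    push_cast
    ring

/-- The series `∑ x^{r+1} t^r`, minus the logarithmic derivative of `1 - x t`. -/
noncomputable def geomS (x : A) : A⟦X⟧ := PowerSeries.mk fun r => x ^ (r + 1)

omit [CharZero A] in
theorem one_sub_mul_geomS (x : A) : (1 - C x * X) * geomS x = C x := by
  ext n
  rw [sub_mul, one_mul, map_sub, mul_assoc, coeff_C_mul]
  cases n with
  | zero =>
    rw [coeff_zero_X_mul, mul_zero, sub_zero, geomS, coeff_mk, coeff_zero_C, zero_add, pow_one]
  | succ n =>
    rw [coeff_succ_X_mul, geomS, coeff_mk, coeff_mk, coeff_C, if_neg (Nat.succ_ne_zero n)]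
    ring

omit [CharZero A] in
theorem derivative_one_sub (x : A) :
    d⁄dX A (1 - C x * X : A⟦X⟧) = (1 - C x * X) * (-geomS x) := by
  rw [mul_neg, one_sub_mul_geomS, map_sub, Derivation.leibniz, derivative_C, derivative_X,
    derivative_one]
  simp

/-- **Zeta function of a polynomial-count sequence.** -/
theorem exp_subst_mul_prod_eq (q : A) (d : ℕ) (a : ℕ → ℤ) (c : ℕ → A)
    (hc : ∀ m : ℕ, 1 ≤ m → c m = ∑ i ∈ Finset.range (d + 1), (a i : A) * (q ^ i) ^ m) :
    (exp A).subst (PowerSeries.mk fun m => c m / (m : A)) *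
        ∏ i ∈ Finset.range (d + 1), (1 - C (q ^ i) * X : A⟦X⟧) ^ (a i).toNat =
      ∏ i ∈ Finset.range (d + 1), (1 - C (q ^ i) * X : A⟦X⟧) ^ (-a i).toNat := by
  set L : A⟦X⟧ := PowerSeries.mk fun m => c m / (m : A) with hLdef
  have hL0 : constantCoeff L = 0 := by
    rw [← coeff_zero_eq_constantCoeff_apply, hLdef, coeff_mk]
    simp
  have hL' : d⁄dX A L = ∑ i ∈ Finset.range (d + 1), (a i : A⟦X⟧) * geomS (q ^ i) := by
    ext n
    rw [coeff_derivative, hLdef, coeff_mk, map_sum, hc (n + 1) (by omega)]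
    have hn : ((n + 1 : ℕ) : A) ≠ 0 := by exact_mod_cast Nat.succ_ne_zero n
    rw [div_mul_eq_mul_div, Nat.cast_succ, mul_div_assoc, div_self (by exact_mod_cast hn), mul_one]
    refine Finset.sum_congr rfl fun i _ => ?_
    have : ((a i : A⟦X⟧)) = C (a i : A) := by simp
    rw [this, coeff_C_mul, geomS, coeff_mk]
  have hpow : ∀ (i : ℕ) (n : ℕ), d⁄dX A ((1 - C (q ^ i) * X : A⟦X⟧) ^ n) =
      (1 - C (q ^ i) * X : A⟦X⟧) ^ n * ((n : A⟦X⟧) * (-geomS (q ^ i))) := fun i n =>
    derivative_pow_of_logDeriv (derivative_one_sub (q ^ i)) n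
  have hP := derivative_prod_of_logDeriv (Finset.range (d + 1))
    (fun i => (1 - C (q ^ i) * X : A⟦X⟧) ^ (a i).toNat)
    (fun i => (((a i).toNat : ℕ) : A⟦X⟧) * (-geomS (q ^ i))) (fun i _ => hpow i _)
  have hM := derivative_prod_of_logDeriv (Finset.range (d + 1))
    (fun i => (1 - C (q ^ i) * X : A⟦X⟧) ^ (-a i).toNat)
    (fun i => (((-a i).toNat : ℕ) : A⟦X⟧) * (-geomS (q ^ i))) (fun i _ => hpow i _)
  refine eq_of_derivative_eq_mul (h := ∑ i ∈ Finset.range (d + 1),
    (((-a i).toNat : ℕ) : A⟦X⟧) * (-geomS (q ^ i))) ?_ hM ?_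
  · rw [Derivation.leibniz, hP, derivative_exp_subst hL0, hL']
    simp only [smul_eq_mul]
    have key : ∑ i ∈ Finset.range (d + 1), (a i : A⟦X⟧) * geomS (q ^ i) +
        ∑ i ∈ Finset.range (d + 1), (((a i).toNat : ℕ) : A⟦X⟧) * (-geomS (q ^ i)) =
        ∑ i ∈ Finset.range (d + 1), (((-a i).toNat : ℕ) : A⟦X⟧) * (-geomS (q ^ i)) := by
      rw [← Finset.sum_add_distrib]
      refine Finset.sum_congr rfl fun i _ => ?_
      have h1 : (a i : A⟦X⟧) = (((a i).toNat : ℕ) : A⟦X⟧) - (((-a i).toNat : ℕ) : A⟦X⟧) := by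
        have := Int.toNat_sub_toNat_neg (a i)
        conv_lhs => rw [← this]
        push_cast
        ring
      rw [h1]
      ring
    rw [← key]
    ring
  · rw [map_mul, constantCoeff_exp_subst hL0, map_prod, map_prod]
    simp

end Groth.Agent.Lib.Helper24.PS
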