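import Mathlib.RingTheory.Polynomial.GaussLemma
import Mathlib.RingTheory.PowerSeries.Inverse
import Mathlib.RingTheory.PowerSeries.Trunc
import Mathlib.RingTheory.Localization.Integral
import Mathlib.Data.ZMod.Basic
import Mathlib.Algebra.Field.ZMod
import Mathlib.RingTheory.PowerSeries.NoZeroDivisors

/-! # Fatou's lemma (helper24) -/

set_option autoImplicit false

namespace Groth.Agent.Lib.Helper24.PS

open PowerSeries

/-- Gauss' lemma step for power series: a prime dividing `B * W` with `B` a primitive polynomial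
divides `W`. -/
theorem prime_dvd_coeff_of_primitive_mul {B : Polynomial ℤ} (hB : B.IsPrimitive) (W : ℤ⟦X⟧)
    {l : ℕ} (hl : l.Prime) (h : ∀ n, (l : ℤ) ∣ coeff n ((B : ℤ⟦X⟧) * W)) :
    ∀ n, (l : ℤ) ∣ coeff n W := by
  haveI : Fact l.Prime := ⟨hl⟩
  set φ := PowerSeries.map (Int.castRingHom (ZMod l)) with hφ
  have h0 : φ ((B : ℤ⟦X⟧) * W) = 0 := by
    ext n
    rw [hφ, coeff_map, map_zero]
    exact (ZMod.intCast_zmod_eq_zero_iff_dvd _ _).mpr (h n)
  rw [map_mul] at h0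
  have hB0 : φ (B : ℤ⟦X⟧) ≠ 0 := by
    intro hz
    have hall : ∀ n, (l : ℤ) ∣ B.coeff n := by
      intro n
      have h1 : coeff n (φ (B : ℤ⟦X⟧)) = 0 := by rw [hz, map_zero]
      rw [hφ, coeff_map, Polynomial.coeff_coe] at h1
      exact (ZMod.intCast_zmod_eq_zero_iff_dvd _ _).mp h1
    have h2 : Polynomial.C (l : ℤ) ∣ B := (Polynomial.C_dvd_iff_dvd_coeff _ _).mpr hall
    have h3 := hB _ h2
    rw [Int.isUnit_iff] at h3
    have := hl.two_le
    omega
  have hW0 : φ W = 0 := (mul_eq_zero.mp h0).resolve_left hB0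
  intro n
  have h1 : coeff n (φ W) = 0 := by rw [hW0, map_zero]
  rw [hφ, coeff_map] at h1
  exact (ZMod.intCast_zmod_eq_zero_iff_dvd _ _).mp h1

/-- If a primitive integer polynomial times an integral power series is a nonzero constant, its
constant coefficient is a unit. -/
theorem isUnit_coeff_zero_of_primitive_mul_eq_C {B : Polynomial ℤ} (hB : B.IsPrimitive) :
    ∀ (N : ℤ) (W : ℤ⟦X⟧), N ≠ 0 → (B : ℤ⟦X⟧) * W = C N → IsUnit (B.coeff 0) := by
  suffices H : ∀ m : ℕ, ∀ N : ℤ, N.natAbs = m → ∀ W : ℤ⟦X⟧, N ≠ 0 → (B : ℤ⟦X⟧) * W = C N →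
      IsUnit (B.coeff 0) from fun N => H _ N rfl
  intro m
  induction m using Nat.strong_induction_on with
  | _ m ih => ?_
  intro N hN W hN0 hBW
  by_cases hunit : IsUnit N
  · have h1 : coeff 0 ((B : ℤ⟦X⟧) * W) = N := by rw [hBW, coeff_zero_C]
    rw [coeff_zero_eq_constantCoeff, map_mul, ← coeff_zero_eq_constantCoeff_apply,
      ← coeff_zero_eq_constantCoeff_apply, Polynomial.coeff_coe] at h1
    exact isUnit_of_mul_isUnit_left (h1 ▸ hunit)
  · have hne1 : N.natAbs ≠ 1 := fun h => hunit (Int.isUnit_iff_natAbs_eq.mpr h)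
    obtain ⟨l, hl, hlN⟩ := Nat.exists_prime_and_dvd hne1
    have hlN' : (l : ℤ) ∣ N := Int.natCast_dvd.mpr hlN
    have hdiv : ∀ n, (l : ℤ) ∣ coeff n ((B : ℤ⟦X⟧) * W) := by
      intro n
      rw [hBW, coeff_C]
      split_ifs
      · exact hlN'
      · exact dvd_zero _
    have hW := prime_dvd_coeff_of_primitive_mul hB W hl hdiv
    obtain ⟨N', hN'⟩ := hlN'
    have hl0 : (l : ℤ) ≠ 0 := by exact_mod_cast hl.ne_zero
    set W₁ : ℤ⟦X⟧ := PowerSeries.mk fun n => coeff n W / (l : ℤ) with hW₁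
    have hWW₁ : W = C (l : ℤ) * W₁ := by
      ext n
      rw [coeff_C_mul, hW₁, coeff_mk, Int.mul_ediv_cancel' (hW n)]
    have hBW₁ : (B : ℤ⟦X⟧) * W₁ = C N' := by
      have h2 : C (l : ℤ) * ((B : ℤ⟦X⟧) * W₁) = C (l : ℤ) * C N' := by
        rw [← map_mul, ← hN', ← hBW, hWW₁]; ring
      have hC0 : (C (l : ℤ) : ℤ⟦X⟧) ≠ 0 := by
        intro h0
        have := congrArg (coeff 0) h0
        rw [coeff_zero_C, map_zero] at this
        exact hl0 this
      exact mul_left_cancel₀ hC0 h2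
    have hN'0 : N' ≠ 0 := by
      rintro rfl; rw [mul_zero] at hN'; exact hN0 hN'
    have hlt : N'.natAbs < m := by
      rw [← hN, hN', Int.natAbs_mul, Int.natAbs_natCast]
      have h1 : 0 < N'.natAbs := Int.natAbs_pos.mpr hN'0
      have := hl.two_le
      nlinarith
    exact ih _ hlt N' rfl W₁ hN'0 hBW₁

theorem exists_int_poly (p : Polynomial ℚ) :
    ∃ (b : ℤ) (q : Polynomial ℤ), b ≠ 0 ∧
      q.map (Int.castRingHom ℚ) = Polynomial.C (b : ℚ) * p := by
  obtain ⟨b, hb, hbp⟩ := IsLocalization.integerNormalization_spec (nonZeroDivisors ℤ) p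
  refine ⟨b, IsLocalization.integerNormalization (nonZeroDivisors ℤ) p,
    nonZeroDivisors.ne_zero hb, ?_⟩
  rw [algebraMap_int_eq] at hbp
  rw [hbp, zsmul_eq_mul]
  simp

/-- **Fatou's lemma.** -/
theorem fatou (P Q : Polynomial ℚ) (hPQ : IsCoprime P Q) (hQ : Q.coeff 0 = 1) (Z : ℤ⟦X⟧)
    (hZ : (P : ℚ⟦X⟧) = (Q : ℚ⟦X⟧) * PowerSeries.map (Int.castRingHom ℚ) Z) :
    (∃ P₀ : Polynomial ℤ, P₀.map (Int.castRingHom ℚ) = P) ∧
      ∃ Q₀ : Polynomial ℤ, Q₀.map (Int.castRingHom ℚ) = Q := by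
  set ι := Int.castRingHom ℚ with hι
  have hinj : Function.Injective (PowerSeries.map ι) := by
    intro a b hab
    ext n
    have := congrArg (coeff n) hab
    rw [coeff_map, coeff_map] at this
    exact Int.cast_injective this
  obtain ⟨U, V, hUV⟩ := hPQ
  obtain ⟨b, Qt, hb, hQt⟩ := exists_int_poly Q
  obtain ⟨bU, Ut, hbU, hUt⟩ := exists_int_poly U
  obtain ⟨bV, Vt, hbV, hVt⟩ := exists_int_poly V
  set c := Qt.content with hc
  set B := Qt.primPart with hB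
  have hQtB : Qt = Polynomial.C c * B := Qt.eq_C_content_mul_primPart
  have hBprim : B.IsPrimitive := Qt.isPrimitive_primPart
  have hQ0 : Q ≠ 0 := by
    intro h0; rw [h0, Polynomial.coeff_zero] at hQ; exact zero_ne_one hQ
  have hc0 : c ≠ 0 := by
    intro h0
    rw [h0, map_zero, zero_mul] at hQtB
    rw [hQtB, Polynomial.map_zero] at hQt
    have hb' : (Polynomial.C (b : ℚ)) ≠ 0 := by
      rw [Ne, Polynomial.C_eq_zero]; exact_mod_cast hb
    exact (mul_ne_zero hb' hQ0) hQt.symm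
  -- power series versions
  have eQ : (PowerSeries.C (b : ℚ)) * (Q : ℚ⟦X⟧) =
      PowerSeries.map ι ((PowerSeries.C c) * (B : ℤ⟦X⟧)) := by
    have := congrArg (fun p : Polynomial ℚ => (p : ℚ⟦X⟧)) hQt
    simp only [Polynomial.polynomial_map_coe, Polynomial.coe_mul, Polynomial.coe_C] at this
    rw [← this, hQtB, Polynomial.coe_mul, Polynomial.coe_C]
  have eU : (PowerSeries.C (bU : ℚ)) * (U : ℚ⟦X⟧) = PowerSeries.map ι (Ut : ℤ⟦X⟧) := by
    have := congrArg (fun p : Polynomial ℚ => (p : ℚ⟦X⟧)) hUt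
    simp only [Polynomial.polynomial_map_coe, Polynomial.coe_mul, Polynomial.coe_C] at this
    exact this.symm
  have eV : (PowerSeries.C (bV : ℚ)) * (V : ℚ⟦X⟧) = PowerSeries.map ι (Vt : ℤ⟦X⟧) := by
    have := congrArg (fun p : Polynomial ℚ => (p : ℚ⟦X⟧)) hVt
    simp only [Polynomial.polynomial_map_coe, Polynomial.coe_mul, Polynomial.coe_C] at this
    exact this.symm
  have e1 : (U : ℚ⟦X⟧) * (P : ℚ⟦X⟧) + (V : ℚ⟦X⟧) * (Q : ℚ⟦X⟧) = 1 := by
    rw [← Polynomial.coe_mul, ← Polynomial.coe_mul, ← Polynomial.coe_add, hUV, Polynomial.coe_one]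
  set W : ℤ⟦X⟧ := PowerSeries.C c * (PowerSeries.C bV * (Ut : ℤ⟦X⟧) * Z + PowerSeries.C bU * (Vt : ℤ⟦X⟧))
    with hW
  have hBW : (B : ℤ⟦X⟧) * W = PowerSeries.C (b * bU * bV) := by
    apply hinj
    have hCι : ∀ z : ℤ, PowerSeries.map ι (PowerSeries.C z) = PowerSeries.C (z : ℚ) := by
      intro z; rw [PowerSeries.map_C]; rfl
    have h2 : PowerSeries.map ι ((B : ℤ⟦X⟧) * W) =
        (PowerSeries.C (b : ℚ) * (Q : ℚ⟦X⟧)) *
          ((PowerSeries.C (bV : ℚ)) * (PowerSeries.C (bU : ℚ) * (U : ℚ⟦X⟧)) * PowerSeries.map ι Z +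
            (PowerSeries.C (bU : ℚ)) * (PowerSeries.C (bV : ℚ) * (V : ℚ⟦X⟧))) := by
      rw [eQ, eU, eV, hW]
      simp only [map_mul, map_add, hCι]
      ring
    rw [h2, hCι]
    have h3 : (PowerSeries.C (b : ℚ) * (Q : ℚ⟦X⟧)) *
          ((PowerSeries.C (bV : ℚ)) * (PowerSeries.C (bU : ℚ) * (U : ℚ⟦X⟧)) * PowerSeries.map ι Z +
            (PowerSeries.C (bU : ℚ)) * (PowerSeries.C (bV : ℚ) * (V : ℚ⟦X⟧))) =
        PowerSeries.C (b : ℚ) * PowerSeries.C (bU : ℚ) * PowerSeries.C (bV : ℚ) *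
          ((U : ℚ⟦X⟧) * ((Q : ℚ⟦X⟧) * PowerSeries.map ι Z) + (V : ℚ⟦X⟧) * (Q : ℚ⟦X⟧)) := by ring
    rw [h3, ← hZ, e1, mul_one]
    push_cast
    simp only [map_mul]
  have hN0 : b * bU * bV ≠ 0 := mul_ne_zero (mul_ne_zero hb hbU) hbV
  have hunit := isUnit_coeff_zero_of_primitive_mul_eq_C hBprim _ W hN0 hBW
  have hsq : (B.coeff 0) * (B.coeff 0) = 1 := by
    rcases Int.isUnit_iff.mp hunit with h | h <;> rw [h] <;> norm_num
  -- compare constant coefficients
  have h0 : (b : ℚ) = (c : ℚ) * (B.coeff 0 : ℚ) := by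
    have := congrArg (fun p : Polynomial ℚ => p.coeff 0) hQt
    simp only [Polynomial.coeff_map, Polynomial.coeff_C_mul, hQ, mul_one] at this
    rw [hQtB, Polynomial.coeff_C_mul] at this
    rw [← this]
    simp [hι]
  have hQeq : (Polynomial.C (B.coeff 0) * B).map ι = Q := by
    have hcq : (Polynomial.C (c : ℚ)) ≠ 0 := by
      rw [Ne, Polynomial.C_eq_zero]; exact_mod_cast hc0
    apply mul_left_cancel₀ hcq
    have h5 : Polynomial.C (c : ℚ) * (Polynomial.C (B.coeff 0) * B).map ι =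
        Polynomial.C ((B.coeff 0 : ℤ) : ℚ) * Qt.map ι := by
      have e1 : ι (B.coeff 0) = ((B.coeff 0 : ℤ) : ℚ) := rfl
      have e2 : ι c = (c : ℚ) := rfl
      rw [hQtB, Polynomial.map_mul, Polynomial.map_mul, Polynomial.map_C, Polynomial.map_C, e1, e2]
      ring
    rw [h5, hQt, ← mul_assoc, ← Polynomial.C_mul]
    congr 2
    rw [h0]
    have : ((B.coeff 0 : ℤ) : ℚ) * ((B.coeff 0 : ℤ) : ℚ) = 1 := by exact_mod_cast hsq
    linear_combination (c : ℚ) * this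
  refine ⟨⟨PowerSeries.trunc (P.natDegree + 1)
    (((Polynomial.C (B.coeff 0) * B : Polynomial ℤ) : ℤ⟦X⟧) * Z), ?_⟩, _, hQeq⟩
  have hPZ : (P : ℚ⟦X⟧) =
      PowerSeries.map ι (((Polynomial.C (B.coeff 0) * B : Polynomial ℤ) : ℤ⟦X⟧) * Z) := by
    rw [map_mul, ← Polynomial.polynomial_map_coe, hQeq, hZ]
  ext n
  rw [Polynomial.coeff_map, PowerSeries.coeff_trunc]
  split_ifs with hn
  · have := congrArg (coeff n) hPZ
    rw [Polynomial.coeff_coe, coeff_map] at this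
    exact this.symm
  · rw [map_zero, Polynomial.coeff_eq_zero_of_natDegree_lt (by omega)]

end Groth.Agent.Lib.Helper24.PS
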