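import Mathlib.RingTheory.MvPolynomial.Expand
import Mathlib.RingTheory.MvPolynomial.Homogeneous
import Mathlib.FieldTheory.Finite.Basic

/-! # The coefficient of `(x_0 ⋯ x_n)^(q-1)` in `f^(q-1)` (helper24) -/

set_option autoImplicit false

namespace Groth.Agent.Lib.Helper24.PS

open MvPolynomial

variable {k : Type*} [Field k] (p : ℕ) [hp : Fact p.Prime] [CharP k p] {σ : Type*} [Fintype σ]

/-- The constant exponent vector. -/
noncomputable def cst (m : ℕ) : σ →₀ ℕ := Finsupp.equivFunOnFinite.symm fun _ => m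

omit hp [CharP k p] in
@[simp] theorem cst_apply (m : ℕ) (i : σ) : (cst m : σ →₀ ℕ) i = m := rfl

theorem coeff_pow_char (h : MvPolynomial σ k) (b : σ →₀ ℕ) :
    coeff (p • b) (h ^ p) = (coeff b h) ^ p := by
  haveI : ExpChar k p := ExpChar.prime hp.out
  rw [← map_frobenius_expand p, coeff_map, coeff_expand_smul p hp.out.ne_zero, frobenius_def]

theorem coeff_pow_char_of_not_dvd (h : MvPolynomial σ k) {m : σ →₀ ℕ} {i : σ} (hi : ¬ p ∣ m i) :
    coeff m (h ^ p) = 0 := by
  haveI : ExpChar k p := ExpChar.prime hp.out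
  rw [← map_frobenius_expand p, coeff_map, coeff_expand_of_not_dvd _ hi, map_zero]

theorem coeff_step (f : MvPolynomial σ k) (hf : f.IsHomogeneous (Fintype.card σ)) (r : ℕ) :
    coeff (cst (p ^ (r + 1) - 1)) (f ^ (p ^ (r + 1) - 1)) =
      coeff (cst (p - 1)) (f ^ (p - 1)) * (coeff (cst (p ^ r - 1)) (f ^ (p ^ r - 1))) ^ p := by
  classical
  have hp1 : 1 ≤ p := hp.out.one_le
  have hpr : 1 ≤ p ^ r := Nat.one_le_pow _ _ hp.out.pos
  have hexp : p ^ (r + 1) - 1 = (p - 1) + p * (p ^ r - 1) := by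
    rw [pow_succ]
    have : p ^ r * p = p * p ^ r := Nat.mul_comm _ _
    rw [this, Nat.mul_sub, mul_one]
    have h2 : p ≤ p * p ^ r := Nat.le_mul_of_pos_right _ (by omega)
    omega
  have hfpow : f ^ (p ^ (r + 1) - 1) = f ^ (p - 1) * (f ^ (p ^ r - 1)) ^ p := by
    rw [hexp, pow_add, pow_mul, ← pow_mul, ← pow_mul, Nat.mul_comm]
  rw [hfpow, coeff_mul]
  have hg : (f ^ (p - 1)).IsHomogeneous (Fintype.card σ * (p - 1)) := hf.pow _
  rw [Finset.sum_eq_single (cst (p - 1), p • cst (p ^ r - 1))]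
  · rw [coeff_pow_char]
  · rintro ⟨a, b⟩ hab hne
    rw [Finset.mem_antidiagonal] at hab
    dsimp only at hab ⊢
    by_contra hcon
    have ha0 : coeff a (f ^ (p - 1)) ≠ 0 := left_ne_zero_of_mul hcon
    have hb0 : coeff b ((f ^ (p ^ r - 1)) ^ p) ≠ 0 := right_ne_zero_of_mul hcon
    have hdvd : ∀ i, p ∣ b i := by
      intro i
      by_contra hi
      exact hb0 (coeff_pow_char_of_not_dvd p _ hi)
    have hsum : ∀ i, a i + b i = p ^ (r + 1) - 1 := by
      intro i
      have := congrArg (fun v : σ →₀ ℕ => v i) hab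
      simpa using this
    have hge : ∀ i, p - 1 ≤ a i := by
      intro i
      obtain ⟨t, ht⟩ := hdvd i
      have h1 := hsum i
      rw [ht, hexp] at h1
      -- a i = (p - 1) + p * (p^r - 1 - t)
      have h2 : p * t ≤ (p - 1) + p * (p ^ r - 1) := by omega
      have h3 : t ≤ p ^ r - 1 := by
        by_contra hlt
        push Not at hlt
        have : p * (p ^ r - 1 + 1) ≤ p * t := Nat.mul_le_mul_left _ hlt
        rw [Nat.mul_add, mul_one] at this
        omega
      have h4 : p * t ≤ p * (p ^ r - 1) := Nat.mul_le_mul_left _ h3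
      omega
    have hdeg : a.degree = Fintype.card σ * (p - 1) := by
      by_contra hd
      exact ha0 (hg.coeff_eq_zero hd)
    rw [Finsupp.degree_eq_sum] at hdeg
    have haeq : ∀ i, a i = p - 1 := by
      by_contra hex
      push Not at hex
      obtain ⟨i₀, hi₀⟩ := hex
      have hlt : ∑ i : σ, (p - 1) < ∑ i, a i :=
        Finset.sum_lt_sum (fun i _ => hge i) ⟨i₀, Finset.mem_univ _, lt_of_le_of_ne (hge i₀) (Ne.symm hi₀)⟩
      rw [Finset.sum_const, Finset.card_univ, smul_eq_mul] at hlt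
      omega
    apply hne
    have ha : a = cst (p - 1) := by
      ext i; rw [haeq i, cst_apply]
    have hb : b = p • cst (p ^ r - 1) := by
      ext i
      have h1 := hsum i
      rw [haeq i, hexp] at h1
      rw [Finsupp.smul_apply, cst_apply, smul_eq_mul]
      omega
    rw [ha, hb]
  · intro hnot
    exfalso
    apply hnot
    rw [Finset.mem_antidiagonal]
    ext i
    rw [Finsupp.add_apply, Finsupp.smul_apply, cst_apply, cst_apply, cst_apply, smul_eq_mul, hexp]

theorem coeff_ne_zero_iff (f : MvPolynomial σ k) (hf : f.IsHomogeneous (Fintype.card σ)) (r : ℕ) :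
    coeff (cst (p ^ (r + 1) - 1)) (f ^ (p ^ (r + 1) - 1)) ≠ 0 ↔
      coeff (cst (p - 1)) (f ^ (p - 1)) ≠ 0 := by
  induction r with
  | zero => rw [zero_add, pow_one]
  | succ r ih =>
    rw [coeff_step p f hf (r + 1), mul_ne_zero_iff]
    constructor
    · exact fun h => h.1
    · exact fun h => ⟨h, pow_ne_zero _ (ih.mpr h)⟩

end Groth.Agent.Lib.Helper24.PS
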