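import Groth.Agent.Lib.Helper24.PS.LogODE
import Mathlib.LinearAlgebra.Matrix.Charpoly.Coeff
import Mathlib.Algebra.Polynomial.Taylor

/-! # `det (1 - t M) = exp (-∑ tr (M^m) t^m / m)` (helper24) -/

set_option autoImplicit false

namespace Groth.Agent.Lib.Helper24.PS

open PowerSeries Matrix

universe u v

variable {K : Type u} [Field K] {n : Type v} [Fintype n] [DecidableEq n]

/-- The resolvent `∑ M^m t^m` as a matrix of power series. -/
noncomputable def resolvent (M : Matrix n n K) : Matrix n n K⟦X⟧ :=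
  fun i j => PowerSeries.mk fun m => (M ^ m) i j

theorem one_sub_mul_resolvent (M : Matrix n n K) :
    (1 - (X : K⟦X⟧) • M.map (C : K →+* K⟦X⟧)) * resolvent M = 1 := by
  ext i j m
  rw [Matrix.sub_mul, Matrix.one_mul, Matrix.sub_apply, Matrix.smul_mul, Matrix.smul_apply,
    Matrix.mul_apply, smul_eq_mul, map_sub]
  simp only [Matrix.map_apply, resolvent, coeff_mk]
  cases m with
  | zero =>
    rw [coeff_zero_X_mul, sub_zero, pow_zero]
    by_cases h : i = j
    · subst h; simp
    · simp [Matrix.one_apply_ne h]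
  | succ m =>
    rw [coeff_succ_X_mul, map_sum]
    have h1 : ∀ l, coeff m (C (M i l) * PowerSeries.mk fun m => (M ^ m) l j) =
        M i l * (M ^ m) l j := fun l => by rw [coeff_C_mul, coeff_mk]
    simp only [h1]
    rw [← Matrix.mul_apply, ← pow_succ']
    by_cases h : i = j
    · subst h; simp [Matrix.one_apply_eq, coeff_one]
    · simp [Matrix.one_apply_ne h]

theorem trace_resolvent_mul (M : Matrix n n K) :
    Matrix.trace (resolvent M * M.map (C : K →+* K⟦X⟧)) =
      PowerSeries.mk fun m => Matrix.trace (M ^ (m + 1)) := by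
  ext m
  rw [Matrix.trace, coeff_mk, map_sum]
  simp only [Matrix.diag_apply, Matrix.mul_apply, map_sum, Matrix.map_apply, resolvent]
  rw [Matrix.trace]
  refine Finset.sum_congr rfl fun i _ => ?_
  rw [Matrix.diag_apply, pow_succ, Matrix.mul_apply]
  refine Finset.sum_congr rfl fun l _ => ?_
  rw [mul_comm, coeff_C_mul, coeff_mk, mul_comm]

/-- **Jacobi's formula** for `det (1 - t M)`. -/
theorem derivative_charpolyRev (M : Matrix n n K) :
    d⁄dX K ((M.charpolyRev : Polynomial K) : K⟦X⟧) =
      ((M.charpolyRev : Polynomial K) : K⟦X⟧) *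
        (-PowerSeries.mk fun m => Matrix.trace (M ^ (m + 1))) := by
  set M' : Matrix n n K⟦X⟧ := M.map (C : K →+* K⟦X⟧) with hM'
  set A : Matrix n n K⟦X⟧ := 1 - (X : K⟦X⟧) • M' with hA
  set N : Matrix n n K⟦X⟧ := -(resolvent M * M') with hN
  have hdetA : A.det = ((M.charpolyRev : Polynomial K) : K⟦X⟧) := by
    rw [Matrix.charpolyRev]
    have h1 := RingHom.map_det (Polynomial.coeToPowerSeries.ringHom (R := K))
      (1 - (Polynomial.X : Polynomial K) • M.map Polynomial.C)
    rw [Polynomial.coeToPowerSeries.ringHom_apply] at h1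
    rw [h1]
    congr 1
    ext i j
    by_cases h : i = j
    · subst h
      simp [hA, hM', Polynomial.coeToPowerSeries.ringHom_apply] <;> exact mul_comm _ _
    · simp [hA, hM', Matrix.one_apply_ne h, Polynomial.coeToPowerSeries.ringHom_apply] <;>
        exact mul_comm _ _
  have hAN : A * N = -M' := by
    rw [hN, Matrix.mul_neg, ← Matrix.mul_assoc, hA, hM', one_sub_mul_resolvent, Matrix.one_mul]
  -- the two-variable determinant
  have hfac : (1 : Matrix n n (Polynomial K⟦X⟧)) -
      (Polynomial.C (X : K⟦X⟧) + Polynomial.X) • M'.map Polynomial.C =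
      A.map Polynomial.C * (1 + (Polynomial.X : Polynomial K⟦X⟧) • N.map Polynomial.C) := by
    have h1 : A.map (Polynomial.C : K⟦X⟧ →+* Polynomial K⟦X⟧) * N.map Polynomial.C =
        -M'.map Polynomial.C := by
      rw [← Matrix.map_mul, hAN]
      ext i j; simp
    have h2 : A.map (Polynomial.C : K⟦X⟧ →+* Polynomial K⟦X⟧) =
        1 - Polynomial.C (X : K⟦X⟧) • M'.map Polynomial.C := by
      ext i j
      by_cases h : i = j
      · subst h; simp [hA]
      · simp [hA, Matrix.one_apply_ne h]
    rw [Matrix.mul_add, Matrix.mul_one, Matrix.mul_smul, h1, h2, add_smul]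
    simp only [smul_neg]
    abel
  have hQ1 : (Matrix.det ((1 : Matrix n n (Polynomial K⟦X⟧)) -
      (Polynomial.C (X : K⟦X⟧) + Polynomial.X) • M'.map Polynomial.C)).coeff 1 =
      A.det * Matrix.trace N := by
    rw [hfac, Matrix.det_mul, ← RingHom.mapMatrix_apply, ← RingHom.map_det, Polynomial.coeff_C_mul,
      Matrix.coeff_det_one_add_X_smul_one]
  -- the same determinant as a Taylor shift of the reverse characteristic polynomial
  let ψ : Polynomial K →+* Polynomial K⟦X⟧ :=
    Polynomial.eval₂RingHom ((Polynomial.C : K⟦X⟧ →+* Polynomial K⟦X⟧).comp (C : K →+* K⟦X⟧))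
      (Polynomial.C (X : K⟦X⟧) + Polynomial.X)
  have hψ : ψ M.charpolyRev = Matrix.det ((1 : Matrix n n (Polynomial K⟦X⟧)) -
      (Polynomial.C (X : K⟦X⟧) + Polynomial.X) • M'.map Polynomial.C) := by
    rw [Matrix.charpolyRev, RingHom.map_det]
    congr 1
    ext i j
    by_cases h : i = j
    · subst h
      simp [ψ, hM'] <;> exact mul_comm _ _
    · simp [ψ, hM', Matrix.one_apply_ne h] <;> exact mul_comm _ _
  have hψ2 : ψ M.charpolyRev =
      Polynomial.taylor (X : K⟦X⟧) (M.charpolyRev.map (C : K →+* K⟦X⟧)) := by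
    rw [Polynomial.taylor_apply, Polynomial.comp, Polynomial.eval₂_map]
    simp only [ψ, Polynomial.coe_eval₂RingHom]
    rw [add_comm]
  have hQ2 : (ψ M.charpolyRev).coeff 1 =
      ((Polynomial.derivative M.charpolyRev : Polynomial K) : K⟦X⟧) := by
    rw [hψ2, Polynomial.taylor_coeff_one, Polynomial.derivative_map, Polynomial.eval_map,
      Polynomial.eval₂_C_X_eq_coe]
  rw [derivative_coe, ← hQ2, hψ, hQ1, hdetA, hN, Matrix.trace_neg, trace_resolvent_mul]

/-- **`det (1 - t M) = exp (-∑ tr (M^m) t^m / m)`.** -/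
theorem charpolyRev_eq_exp [CharZero K] (M : Matrix n n K) :
    ((M.charpolyRev : Polynomial K) : K⟦X⟧) =
      (PowerSeries.exp K).subst (PowerSeries.mk fun m : ℕ => -(Matrix.trace (M ^ m)) / (m : K)) := by
  set L : K⟦X⟧ := PowerSeries.mk fun m : ℕ => -(Matrix.trace (M ^ m)) / (m : K) with hL
  have hL0 : constantCoeff L = 0 := by
    rw [← coeff_zero_eq_constantCoeff_apply, hL, coeff_mk]
    simp
  have hL' : d⁄dX K L = -PowerSeries.mk fun m => Matrix.trace (M ^ (m + 1)) := by
    ext m
    rw [coeff_derivative, hL, coeff_mk, map_neg, coeff_mk]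
    have hm : ((m : K) + 1) ≠ 0 := by exact_mod_cast Nat.succ_ne_zero m
    push_cast
    field_simp
  refine eq_of_derivative_eq_mul (derivative_charpolyRev M) ?_ ?_
  · rw [derivative_exp_subst hL0, hL']
  · rw [constantCoeff_exp_subst hL0, ← coeff_zero_eq_constantCoeff_apply, Polynomial.coeff_coe,
      Polynomial.coeff_zero_eq_eval_zero, Matrix.eval_charpolyRev]

end Groth.Agent.Lib.Helper24.PS
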