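import Mathlib

/-!
# Units of Laurent series over a reduced connected ring (S15750)
-/

open HahnSeries

namespace Groth.Agent.Lib.Helper24.PS

variable {R : Type*} [CommRing R]

/-- In a reduced ring, if `f g = 1` in `R((t))` then `a_i b_j = 0` whenever `i + j < 0`. -/
theorem coeff_mul_coeff_eq_zero [IsReduced R] {f g : LaurentSeries R} (h : f * g = 1)
    {i j : ℤ} (hij : i + j < 0) : f.coeff i * g.coeff j = 0 := by
  apply IsReduced.eq_zero
  rw [nilpotent_iff_mem_prime]
  intro 𝔭 h𝔭
  by_contra hnot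
  have hai : f.coeff i ∉ 𝔭 := fun h' => hnot (Ideal.mul_mem_right _ _ h')
  have hbj : g.coeff j ∉ 𝔭 := fun h' => hnot (Ideal.mul_mem_left _ _ h')
  set Sf : Set ℤ := {i | f.coeff i ∉ 𝔭} with hSf
  set Sg : Set ℤ := {j | g.coeff j ∉ 𝔭} with hSg
  have hSf_sub : Sf ⊆ f.support := by
    intro x hx
    rw [HahnSeries.mem_support]
    intro h0
    apply hx
    rw [h0]; exact zero_mem _
  have hSg_sub : Sg ⊆ g.support := by
    intro x hx
    rw [HahnSeries.mem_support]
    intro h0
    apply hx
    rw [h0]; exact zero_mem _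
  have hwf : Sf.IsWF := f.isWF_support.mono hSf_sub
  have hwg : Sg.IsWF := g.isWF_support.mono hSg_sub
  have hnf : Sf.Nonempty := ⟨i, hai⟩
  have hng : Sg.Nonempty := ⟨j, hbj⟩
  set i₀ := hwf.min hnf with hi₀
  set j₀ := hwg.min hng with hj₀
  have hi₀mem : f.coeff i₀ ∉ 𝔭 := hwf.min_mem hnf
  have hj₀mem : g.coeff j₀ ∉ 𝔭 := hwg.min_mem hng
  have hi₀le : i₀ ≤ i := hwf.min_le hnf hai
  have hj₀le : j₀ ≤ j := hwg.min_le hng hbj
  have hi₀min : ∀ x, x < i₀ → f.coeff x ∈ 𝔭 := by
    intro x hx
    by_contra hx'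
    exact hwf.not_lt_min hnf hx' hx
  have hj₀min : ∀ x, x < j₀ → g.coeff x ∈ 𝔭 := by
    intro x hx
    by_contra hx'
    exact hwg.not_lt_min hng hx' hx
  have hk : i₀ + j₀ ≠ 0 := by omega
  have hc : (f * g).coeff (i₀ + j₀) = 0 := by
    rw [h, HahnSeries.coeff_one, if_neg hk]
  rw [HahnSeries.coeff_mul] at hc
  have hmem : (i₀, j₀) ∈ Finset.antidiagonal f.isPWO_support g.isPWO_support (i₀ + j₀) := by
    rw [Finset.mem_antidiagonal]
    exact ⟨hSf_sub hi₀mem, hSg_sub hj₀mem, rfl⟩
  rw [← Finset.add_sum_erase _ _ hmem] at hc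
  have hrest : ∑ x ∈ (Finset.antidiagonal f.isPWO_support g.isPWO_support (i₀ + j₀)).erase
      (i₀, j₀), f.coeff x.1 * g.coeff x.2 ∈ 𝔭 := by
    apply Ideal.sum_mem
    rintro ⟨i', j'⟩ hx
    rw [Finset.mem_erase, Finset.mem_antidiagonal] at hx
    obtain ⟨hne, -, -, hsum⟩ := hx
    simp only at hsum
    by_cases hlt : i' < i₀
    · exact Ideal.mul_mem_right _ _ (hi₀min _ hlt)
    · have hj' : j' < j₀ := by
        by_contra hge
        apply hne
        have : i' = i₀ := by omega
        have : j' = j₀ := by omega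
        simp [*]
      exact Ideal.mul_mem_left _ _ (hj₀min _ hj')
  have hprod : f.coeff i₀ * g.coeff j₀ ∈ 𝔭 := by
    have : f.coeff i₀ * g.coeff j₀ = -(∑ x ∈ (Finset.antidiagonal f.isPWO_support
        g.isPWO_support (i₀ + j₀)).erase (i₀, j₀), f.coeff x.1 * g.coeff x.2) := by
      linear_combination hc
    rw [this]
    exact neg_mem hrest
  rcases h𝔭.mem_or_mem hprod with h' | h'
  · exact hi₀mem h'
  · exact hj₀mem h'

/-- Over a reduced ring with only trivial idempotents, the lowest coefficient of a unit of `R((t))`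
is a unit. -/
theorem isUnit_coeff_order [IsReduced R] [Nontrivial R]
    (hconn : ∀ e : R, IsIdempotentElem e → e = 0 ∨ e = 1) {f g : LaurentSeries R}
    (h : f * g = 1) : IsUnit (f.coeff f.order) := by
  classical
  -- the elements `e_n = a_n b_{-n}`
  have horth : ∀ n n' : ℤ, n ≠ n' →
      (f.coeff n * g.coeff (-n)) * (f.coeff n' * g.coeff (-n')) = 0 := by
    intro n n' hne
    rcases lt_or_gt_of_ne hne with hlt | hgt
    · have := coeff_mul_coeff_eq_zero h (i := n) (j := -n') (by omega)
      calc (f.coeff n * g.coeff (-n)) * (f.coeff n' * g.coeff (-n'))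
          = (f.coeff n * g.coeff (-n')) * (f.coeff n' * g.coeff (-n)) := by ring
        _ = 0 := by rw [this, zero_mul]
    · have := coeff_mul_coeff_eq_zero h (i := n') (j := -n) (by omega)
      calc (f.coeff n * g.coeff (-n)) * (f.coeff n' * g.coeff (-n'))
          = (f.coeff n' * g.coeff (-n)) * (f.coeff n * g.coeff (-n')) := by ring
        _ = 0 := by rw [this, zero_mul]
  have hsum : ∑ x ∈ Finset.antidiagonal f.isPWO_support g.isPWO_support 0,
      f.coeff x.1 * g.coeff x.2 = 1 := by
    rw [← HahnSeries.coeff_mul, h, HahnSeries.coeff_one, if_pos rfl]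
  have hsnd : ∀ x ∈ Finset.antidiagonal f.isPWO_support g.isPWO_support (0 : ℤ),
      x.2 = -x.1 := by
    intro x hx
    rw [Finset.mem_antidiagonal] at hx
    omega
  have hidem : ∀ x ∈ Finset.antidiagonal f.isPWO_support g.isPWO_support (0 : ℤ),
      IsIdempotentElem (f.coeff x.1 * g.coeff x.2) := by
    intro x hx
    show f.coeff x.1 * g.coeff x.2 * (f.coeff x.1 * g.coeff x.2) = f.coeff x.1 * g.coeff x.2
    have h1 : f.coeff x.1 * g.coeff x.2 = f.coeff x.1 * g.coeff x.2 *
        ∑ y ∈ Finset.antidiagonal f.isPWO_support g.isPWO_support 0,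
          f.coeff y.1 * g.coeff y.2 := by rw [hsum, mul_one]
    conv_rhs => rw [h1]
    rw [Finset.mul_sum, Finset.sum_eq_single_of_mem x hx]
    intro y hy hyx
    rw [hsnd x hx, hsnd y hy]
    apply horth
    intro h12
    apply hyx
    have h2 := hsnd x hx
    have h3 := hsnd y hy
    ext
    · exact h12.symm
    · rw [h2, h3, h12]
  -- some `e_n` equals `1`
  have hex : ∃ x ∈ Finset.antidiagonal f.isPWO_support g.isPWO_support (0 : ℤ),
      f.coeff x.1 * g.coeff x.2 = 1 := by
    by_contra hno
    push Not at hno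
    have : ∑ x ∈ Finset.antidiagonal f.isPWO_support g.isPWO_support 0,
        f.coeff x.1 * g.coeff x.2 = 0 := by
      apply Finset.sum_eq_zero
      intro x hx
      rcases hconn _ (hidem x hx) with h0 | h1
      · exact h0
      · exact absurd h1 (hno x hx)
    rw [this] at hsum
    exact zero_ne_one hsum
  obtain ⟨x, hx, hx1⟩ := hex
  set n₀ := x.1 with hn₀
  have hx2 : x.2 = -n₀ := hsnd x hx
  rw [hx2] at hx1
  have hunit : IsUnit (f.coeff n₀) := IsUnit.of_mul_eq_one _ hx1
  have hne0 : f.coeff n₀ ≠ 0 := hunit.ne_zero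
  have hlow : ∀ i, i < n₀ → f.coeff i = 0 := by
    intro i hi
    have h0 := coeff_mul_coeff_eq_zero h (i := i) (j := -n₀) (by omega)
    calc f.coeff i = f.coeff i * (f.coeff n₀ * g.coeff (-n₀)) := by rw [hx1, mul_one]
      _ = f.coeff n₀ * (f.coeff i * g.coeff (-n₀)) := by ring
      _ = 0 := by rw [h0, mul_zero]
  have hf0 : f ≠ 0 := HahnSeries.ne_zero_of_coeff_ne_zero hne0
  have hord : f.order = n₀ := by
    apply le_antisymm
    · exact HahnSeries.order_le_of_coeff_ne_zero hne0
    · by_contra hlt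
      push Not at hlt
      exact hf0 (HahnSeries.coeff_order_eq_zero.1 (hlow _ hlt))
  rw [hord]
  exact hunit

theorem units_laurentSeries [IsReduced R] [Nontrivial R]
    (hconn : ∀ e : R, IsIdempotentElem e → e = 0 ∨ e = 1) (f : (LaurentSeries R)ˣ) :
    ∃! p : ℤ × (PowerSeries R)ˣ,
      (f : LaurentSeries R) = HahnSeries.single p.1 (1 : R) *
        HahnSeries.ofPowerSeries ℤ R (p.2 : PowerSeries R) := by
  have h1 : (f : LaurentSeries R) * ((f⁻¹ : (LaurentSeries R)ˣ) : LaurentSeries R) = 1 :=
    f.mul_inv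
  have hu := isUnit_coeff_order hconn h1
  have hpart : IsUnit (f : LaurentSeries R).powerSeriesPart := by
    rw [PowerSeries.isUnit_iff_constantCoeff, ← PowerSeries.coeff_zero_eq_constantCoeff_apply,
      LaurentSeries.powerSeriesPart_coeff]
    simpa using hu
  refine ⟨((f : LaurentSeries R).order, hpart.unit), ?_, ?_⟩
  · exact (LaurentSeries.single_order_mul_powerSeriesPart (f : LaurentSeries R)).symm
  · rintro ⟨n, u⟩ hnu
    simp only at hnu
    -- lowest coefficients
    have hu0 : IsUnit (PowerSeries.constantCoeff (u : PowerSeries R)) :=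
      PowerSeries.isUnit_iff_constantCoeff.1 u.isUnit
    have hcoeff : ∀ i : ℤ, (f : LaurentSeries R).coeff (i + n) =
        (HahnSeries.ofPowerSeries ℤ R (u : PowerSeries R)).coeff i := by
      intro i
      rw [hnu, HahnSeries.coeff_single_mul_add, one_mul]
    have hn0 : (f : LaurentSeries R).coeff n ≠ 0 := by
      have := hcoeff 0
      rw [zero_add] at this
      rw [this]
      have h2 : (HahnSeries.ofPowerSeries ℤ R (u : PowerSeries R)).coeff 0
          = PowerSeries.constantCoeff (u : PowerSeries R) := by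
        have := PowerSeries.coeff_coe (u : PowerSeries R) (0 : ℤ)
        simpa using this
      rw [h2]
      exact hu0.ne_zero
    have hlow : ∀ i : ℤ, i < n → (f : LaurentSeries R).coeff i = 0 := by
      intro i hi
      have := hcoeff (i - n)
      rw [sub_add_cancel] at this
      rw [this]
      have h2 := PowerSeries.coeff_coe (u : PowerSeries R) (i - n)
      rw [if_pos (by omega)] at h2
      exact h2
    have hf0 : (f : LaurentSeries R) ≠ 0 := HahnSeries.ne_zero_of_coeff_ne_zero hn0
    have hord : (f : LaurentSeries R).order = n := by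
      apply le_antisymm
      · exact HahnSeries.order_le_of_coeff_ne_zero hn0
      · by_contra hlt
        push Not at hlt
        exact hf0 (HahnSeries.coeff_order_eq_zero.1 (hlow _ hlt))
    have hpu : (f : LaurentSeries R).powerSeriesPart = (u : PowerSeries R) := by
      ext k
      rw [LaurentSeries.powerSeriesPart_coeff, hord, add_comm, hcoeff]
      have h2 := PowerSeries.coeff_coe (u : PowerSeries R) (k : ℤ)
      rw [if_neg (by omega)] at h2
      simpa using h2
    ext
    · exact hord.symm
    · simp only [IsUnit.unit_spec]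
      rw [hpu]

end Groth.Agent.Lib.Helper24.PS
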